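import Cfsg.Agent.Lib.CosetTable.Sound
import Cfsg.Agent.Lib.CosetTable.Y555E6.Data

/-! Generated certificate data for the coset table `Y555E6`. -/

namespace Cfsg.Agent.Lib.CosetTable.Y555E6

open Cfsg.Agent.Lib.CosetTable

noncomputable def streams0 : List (ℕ × ℕ) := [(64, 0x7600007400007700000300002100006600006f00007700000300001c00007600007000007700000300001a00000000000000006e00006400006f00000300000e00006e00006000006f00000300000b00006e00005e00004400005f00006f00000500002200000000000000006600006400006700000300002100006600006200006700000300001d00005900005f00006700000300001a00000000000000005e00004900003200004800005f00000500002000005e00004600005f00000300001100005e00004200003a00004300005f00000500001f00000000000000005400005200005500000300001800005400005000005500000300001700004900004b00005500000300001600005400004e00005500000300001e00000000000000004a00003600004b00000300001d00004a00003400004b00000300001c00004a00003000002a00003100004b00000500001b00004a00003200004b00000300001a00000000000000003000003900004300000300001900004200004000004300000300001400004200003e00004300000300001300000000000000003800002e00003900000300001800003800002c00003900000300001700003800002a00003900000300001600003800002800002600002900003900000500001500000000000000003000002e00003100000300001400003000002c00003100000300001300003000002800002000002900003100000500001200000000000000002800002400002900000300001100002800001e00001600001f00002900000500001000002800002200002900000300000f00000000000000001e00001c00001f00000300000e00001e00001400001000001500001f00000500000d00001e00001a00001f00000300000c00001e00001800001f00000300000b00000000000000001400001200001500000300000a00001400000e00001500000300000900001400000c00001500000300000800001400000a000015000003000007000000000000000008000001000006000006000001000005000004000001000004000002000001000003000000000001000002000000000001000000000001000000000001000000000001000000000001),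
  (64, 0xfa0000f00000e80000f10000fb00000500001b0000fa0000f20000fb00000300001a0000000000000000f00000ee0000f10000030000190000f00000ec0000f10000030000140000f00000ea0000f10000030000130000f00000e60000de0000e70000f10000050000120000000000000000e60000dc0000d40000dd0000e70000050000200000e60000e40000e70000030000110000e60000e30000ca0000e20000e70000050000100000e60000e00000e700000300000f0000000000000000dc0000da0000dd0000030000180000d10000d30000dd0000030000170000dc0000d80000dd0000030000160000dc0000d60000dd00000300001e0000000000000000d20000b60000b40000b70000d300000500000d0000d20000bc0000d300000300000c0000d20000ba0000d300000300000b0000d20000b90000aa0000b80000d30000050000220000000000000000b60000bf0000c900000300000a0000c80000c40000c90000030000090000c80000c20000c90000030000080000c80000c00000c90000030000070000000000000000be0000b40000bf0000030000170000be0000b20000bf0000030000160000be0000b00000bf00000300001e0000be0000ae00008e0000af0000bf0000050000150000000000000000b60000b20000b70000030000090000b60000b00000b70000030000080000a40000af0000b70000030000070000000000000000ae0000880000800000890000af0000050000100000ae00008c0000af00000300000f0000ae00008b00007800008a0000af00000500001f0000000000000000a400008e0000a500000300000a0000a40000880000840000890000a50000050000240000a400008c0000a50000030000090000a100008a0000a500000300000800000000000000009a00009800009b00000300002100007600009100009b00000300001d00009a00009600009b00000300001c00009a00009200009b00000300001a00000000000000009000007400009100000300000a00009000006e00006200006f00009100000500002400009000007200009100000300000800009000007000009100000300000700000000000000008800008600008900000300000e00008800008200008900000300000c00007b00007f00008900000300000b00000000000000007e00006c00007f00000300001900007e00006a00007f00000300001400007e00006600006000006700007f00000500002300007e00006900005600006800007f000005000012),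
  (3, 0xfa0000f80000fb0000030000210000fa0000f60000fb00000300001d0000fa0000f40000fb00000300001c)]

theorem run0 : cert.goStreams streams0 0 = true := by decide +kernel

theorem part1 (h : cert.Upto 0) : cert.Upto 131 :=
  (h).step (b := 131) run0 rfl

end Cfsg.Agent.Lib.CosetTable.Y555E6
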